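import Groth.Prelude.Def_CycCov
import Groth.Agent.Lib.TensorMod.FibreInt
import Groth.Agent.Lib.TensorMod.HomGlue
import Groth.Agent.Lib.Ample.GenLocus
import Groth.Agent.H95.CycCover.Frames
import Groth.Agent.H81.CycIrred.Geom
import Groth.Agent.H97.DetSection
import Groth.Agent.Lib.TensorMod.Invertible
import Groth.Agent.H95.CycAlg.Cover
import Groth.Agent.Lib.ClSub.Basis

/-!
# The norm of an invertible module on a flat double cover
-/

set_option autoImplicit false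
set_option linter.style.haveILetI false
set_option backward.isDefEq.respectTransparency false
universe u
open CategoryTheory AlgebraicGeometry TopologicalSpace Opposite
open Groth.Agent.Lib.TensorMod Groth.Agent.Lib.TensorMod.Gen Groth.Agent.Lib.TensorMod.Dual
open Groth.Agent.Lib.TensorMod.HomGlue Groth.Agent.Lib.Ample.GenLocus Groth.Agent.Lib.TensorMod.Pullback
open Groth.Agent.H95 Groth.Agent.H95.CycCover

namespace Groth.Agent.H12.DblNorm

theorem alt_two {R V W : Type*} [CommRing R] [AddCommGroup V] [Module R V] [AddCommGroup W] [Module R W]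
    (F : V [⋀^Fin 2]→ₗ[R] W) (x y z w : R) (p q : V) :
    F ![x • p + y • q, z • p + w • q] = (x * w - y * z) • F ![p, q] := by
  have h0 : ∀ a b c : V, F ![a + b, c] = F ![a, c] + F ![b, c] := fun a b c => F.map_vecCons_add _ _ _
  have h0s : ∀ (r : R) (a c : V), F ![r • a, c] = r • F ![a, c] := fun r a c => F.map_vecCons_smul _ _ _
  have hswap : ∀ a c : V, F ![a, c] = -F ![c, a] := fun a c => by
    have h := F.map_swap ![c, a] (i := 0) (j := 1) (by decide)
    rw [← h]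
    congr 1
    funext l
    fin_cases l <;> simp
  have h1 : ∀ a b c : V, F ![a, b + c] = F ![a, b] + F ![a, c] := fun a b c => by
    rw [hswap, h0, hswap b, hswap c]; abel
  have h1s : ∀ (r : R) (a c : V), F ![a, r • c] = r • F ![a, c] := fun r a c => by
    rw [hswap, h0s, hswap c, smul_neg, neg_neg]
  have hzero : ∀ a : V, F ![a, a] = 0 := fun a =>
    F.map_eq_zero_of_eq ![a, a] (i := 0) (j := 1) (by simp) (by decide)
  rw [h0, h0s, h0s, h1, h1, h1s, h1s, h1s, h1s, hzero, hzero, hswap q p, sub_smul, mul_smul, mul_smul]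
  simp only [smul_zero, smul_neg, zero_add, add_zero, sub_eq_add_neg]

variable {Y Yb : Scheme.{u}} {L : Y.Modules} {s : Coh.structureModule Y ⟶ CohB1.tensorPow L 2}
  {g : Yb ⟶ Y} (R : CycCov.Root L 2 s g)

include R in
theorem isFinite (hR : CycCov.IsSimple R) (hL : PicF.IsInvertible L) : IsFinite g := by
  haveI := hR.1
  choose W e hyW he using isInvertible_iff.mp hL
  choose U hU hyU hle using fun y : Y => exists_isAffineOpen_mem_and_subset (X := Y) (x := y) (U := W y) (hyW y)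
  refine (HasAffineProperty.iff_of_iSup_eq_top (P := @IsFinite) (fun y : Y => (⟨U y, hU y⟩ : Y.affineOpens))
    (top_le_iff.mp fun y _ => Opens.mem_iSup.mpr ⟨y, hyU y⟩)).mpr fun y => ⟨(hU y).preimage g, ?_⟩
  have he' := (he y).res (hle y : U y ≤ W y)
  obtain ⟨φ, hφ⟩ := Frames.exists_phi s he'
  have hb := hR.2 ⟨U y, hU y⟩ _ (Frames.cycIsGen he') φ hφ
  haveI := (Polynomial.monic_X_pow_sub_C φ (two_ne_zero)).finite_adjoinRoot
  have hfin : (g.app (U y)).hom.Finite := by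
    have h1 : (g.app (U y)).hom =
        (CycCov.chart R ⟨U y, hU y⟩ _ (Frames.cycIsGen he') φ hφ).comp (AdjoinRoot.of _) :=
      RingHom.ext fun b => by rw [RingHom.comp_apply]; exact (AdjoinRoot.lift_of _).symm
    rw [h1]
    refine RingHom.Finite.comp (RingHom.Finite.of_surjective _ hb.2) ?_
    rw [← AdjoinRoot.algebraMap_eq, RingHom.finite_algebraMap]
    infer_instance
  rw [morphismRestrict_appTop]
  have h4 : ∀ V : Y.Opens, V = U y → (g.app V).hom.Finite := by rintro V rfl; exact hfin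
  change ((Yb.presheaf.map (eqToHom (image_morphismRestrict_preimage g (U y) ⊤)).op).hom.comp
    (g.app ((U y).ι ''ᵁ ⊤)).hom).Finite
  exact RingHom.finite_respectsIso.1 _ (asIso (Yb.presheaf.map
    (eqToHom (image_morphismRestrict_preimage g (U y) ⊤)).op)).commRingCatIsoToRingEquiv
    (h4 _ (U y).ι_image_top)

theorem coords (hR : CycCov.IsSimple R) (U : Y.affineOpens) {e : Γ(L, U.1)} (he : IsGen L U.1 e) :
    Function.Bijective fun c : Fin 2 → Γ(Y, U.1) =>
      (g.app U.1).hom (c 0) + (g.app U.1).hom (c 1) * R.t U e (Frames.cycIsGen he) := by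
  obtain ⟨φ, hφ⟩ := Frames.exists_phi s he
  have hb := hR.2 U e (Frames.cycIsGen he) φ hφ
  have h1 : ∀ c : Fin 2 → Γ(Y, U.1), CycCov.chart R U e (Frames.cycIsGen he) φ hφ
      (∑ j, algebraMap _ _ (c j) * AdjoinRoot.root _ ^ (j : ℕ)) =
        (g.app U.1).hom (c 0) + (g.app U.1).hom (c 1) * R.t U e (Frames.cycIsGen he) := fun c => by
    simp only [Fin.sum_univ_two, map_add, map_mul, map_pow, CycCov.chart, AdjoinRoot.algebraMap_eq,
      AdjoinRoot.lift_of, AdjoinRoot.lift_root, Fin.val_zero, Fin.val_one, pow_zero, pow_one, mul_one]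
  refine ⟨fun c c' h => ?_, fun z => ?_⟩
  · simp only [← h1] at h
    have h2 := hb.1 h
    rw [← sub_eq_zero, ← Finset.sum_sub_distrib] at h2
    refine sub_eq_zero.mp (CycAlg.Cover.coord_eq_zero two_pos φ (c - c') ?_)
    rw [← h2]
    exact Finset.sum_congr rfl fun j _ => by simp only [Pi.sub_apply, map_sub, sub_mul]
  · obtain ⟨q, hq⟩ := hb.2 z
    obtain ⟨c, hc⟩ := CycAlg.Cover.exists_coord two_pos φ q
    exact ⟨c, (h1 c).symm.trans (by rw [← hc, hq])⟩

variable {σ : Yb ⟶ Yb} (hσg : σ ≫ g = g)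

include hσg in
theorem preimage_le (U : Y.Opens) : g ⁻¹ᵁ U ≤ σ ⁻¹ᵁ (g ⁻¹ᵁ U) := by
  rw [← Scheme.Hom.comp_preimage, hσg]

/-- the action of the involution on functions -/
noncomputable def act (U : Y.Opens) : Γ(Yb, g ⁻¹ᵁ U) →+* Γ(Yb, g ⁻¹ᵁ U) :=
  (σ.appLE (g ⁻¹ᵁ U) (g ⁻¹ᵁ U) (preimage_le hσg U)).hom

theorem act_app (U : Y.Opens) (b : Γ(Y, U)) : act hσg U ((g.app U).hom b) = (g.app U).hom b := by
  have h : ∀ (k : Yb ⟶ Y) (hk : k = g) (h1 : g ⁻¹ᵁ U ≤ k ⁻¹ᵁ U),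
      (k.appLE U (g ⁻¹ᵁ U) h1).hom b = (g.app U).hom b := by
    rintro k rfl h1
    rw [Scheme.Hom.appLE_eq_app]
  have h2 := h (σ ≫ g) hσg (by rw [hσg])
  rw [← Scheme.Hom.appLE_comp_appLE σ g U (g ⁻¹ᵁ U) (g ⁻¹ᵁ U) le_rfl (preimage_le hσg U),
    Scheme.Hom.appLE_eq_app] at h2
  exact h2

variable (M : Yb.Modules)

/-- `σ^* μ` -/
noncomputable def pullSec (U : Y.Opens) (μ : Γ(M, g ⁻¹ᵁ U)) :
    Γ((Scheme.Modules.pullback σ).obj M, g ⁻¹ᵁ U) :=
  rs _ (preimage_le hσg U) (unitSec σ M μ)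

theorem pullSec_smul (U : Y.Opens) (a : Γ(Yb, g ⁻¹ᵁ U)) (μ : Γ(M, g ⁻¹ᵁ U)) :
    pullSec hσg M U (a • μ) = act hσg U a • pullSec hσg M U μ := by
  rw [pullSec, unitSec_smul, rs_smul]
  rfl

theorem pullSec_rs {U V : Y.Opens} (h : V ≤ U) (μ : Γ(M, g ⁻¹ᵁ U)) :
    rs _ (g.preimage_mono h) (pullSec hσg M U μ) = pullSec hσg M V (rs M (g.preimage_mono h) μ) := by
  rw [pullSec, pullSec, ← unitSec_rs σ (g.preimage_mono h) μ, rs_rs, rs_rs]

/-- A chart for the norm. -/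
structure Chart (M : Yb.Modules) where
  U : Y.affineOpens
  e : Γ(L, U.1)
  he : IsGen L U.1 e
  μ : Γ(M, g ⁻¹ᵁ U.1)
  hμ : IsGen M (g ⁻¹ᵁ U.1) μ

/-- a section of the direct image -/
abbrev down {U : Y.Opens} (m : Γ(M, g ⁻¹ᵁ U)) : Γ((Scheme.Modules.pushforward g).obj M, U) := m

theorem down_smul {U : Y.Opens} (b : Γ(Y, U)) (m : Γ(M, g ⁻¹ᵁ U)) :
    b • down M m = down M ((g.app U).hom b • m) := rfl

variable {Δ : Y.Modules}
  (φ : ∀ U : Y.affineOpens, Γ(Δ, U.1) ≃ₗ[Γ(Y, U.1)]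
    ↥(⋀[Γ(Y, U.1)]^2 Γ((Scheme.Modules.pushforward g).obj M, U.1)))
  (hφ : ∀ (U V : Y.affineOpens) (h : V.1 ≤ U.1) (e : Fin 2 → Γ((Scheme.Modules.pushforward g).obj M, U.1)),
    rs Δ h ((φ U).symm (exteriorPower.ιMulti _ 2 e)) =
      (φ V).symm (exteriorPower.ιMulti _ 2 fun j => rs _ h (e j)))

/-- `μ ∧ tμ` -/
noncomputable def wedge (U : Y.affineOpens) (t : Γ(Yb, g ⁻¹ᵁ U.1)) (μ : Γ(M, g ⁻¹ᵁ U.1)) : Γ(Δ, U.1) :=
  H97.DetSection.lam φ U ![down M μ, down M (t • μ)]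

include hφ in
theorem rs_wedge {U V : Y.affineOpens} (h : V.1 ≤ U.1) (t : Γ(Yb, g ⁻¹ᵁ U.1)) (μ : Γ(M, g ⁻¹ᵁ U.1)) :
    rs Δ h (wedge M φ U t μ) =
      wedge M φ V (rf (g.preimage_mono h) t) (rs M (g.preimage_mono h) μ) := by
  rw [wedge, H97.DetSection.rs_lam φ hφ U V h, wedge]
  congr 1
  funext j
  fin_cases j
  · rfl
  · exact rs_smul M (g.preimage_mono h) t μ

include hφ in
theorem isGen_wedge (hR : CycCov.IsSimple R) (C : Chart (L := L) (g := g) M) :
    IsGen Δ C.U.1 (wedge M φ C.U (R.t C.U C.e (Frames.cycIsGen C.he)) C.μ) :=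
  H97.DetSection.isGen_of_affine fun V hV => by
  rw [rs_wedge M φ hφ hV]
  have ht : rf (g.preimage_mono hV) (R.t C.U C.e (Frames.cycIsGen C.he)) =
      R.t V (rs L hV C.e) (Frames.cycIsGen (C.he.res hV)) :=
    R.t_res C.U V hV C.e (Frames.cycIsGen C.he) (Frames.cycIsGen (C.he.res hV))
  rw [ht]
  set t := R.t V (rs L hV C.e) (Frames.cycIsGen (C.he.res hV))
  set μ := rs M (g.preimage_mono hV) C.μ
  let v : Fin 2 → Γ((Scheme.Modules.pushforward g).obj M, V.1) := ![down M μ, down M (t • μ)]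
  let G : (Fin 2 → Γ(Y, V.1)) →ₗ[Γ(Y, V.1)] Γ((Scheme.Modules.pushforward g).obj M, V.1) :=
    Fintype.linearCombination Γ(Y, V.1) v
  have hG : Function.Bijective G := by
    have hμ : Function.Bijective fun p : Γ(Yb, g ⁻¹ᵁ V.1) => p • μ := C.hμ _ (g.preimage_mono hV)
    have : ⇑G = (fun p : Γ(Yb, g ⁻¹ᵁ V.1) => down M (p • μ)) ∘
        fun c : Fin 2 → Γ(Y, V.1) => (g.app V.1).hom (c 0) + (g.app V.1).hom (c 1) * t := funext fun c => by
      simp only [G, Fintype.linearCombination_apply, Fin.sum_univ_two, Function.comp_apply, v,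
        Matrix.cons_val_zero, Matrix.cons_val_one, down_smul, smul_smul, add_smul]
    rw [this]
    exact hμ.comp (coords R hR V (C.he.res hV))
  let B : Module.Basis (Fin 2) Γ(Y, V.1) Γ((Scheme.Modules.pushforward g).obj M, V.1) :=
    Module.Basis.ofEquivFun (LinearEquiv.ofBijective G hG).symm
  have hB : (⇑B : Fin 2 → _) = v := funext fun j => by
    simp only [B, Module.Basis.coe_ofEquivFun, LinearEquiv.symm_symm, LinearEquiv.ofBijective_apply]
    exact (Fintype.linearCombination_apply_single _ _ j 1).trans (one_smul _ _)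
  have h2 := (φ V).symm.bijective.comp (H26.DetExtend.bijective_smul_ιMulti B)
  have e1 : (fun a : Γ(Y, V.1) => a • wedge M φ V t μ) =
      fun a => (φ V).symm (a • exteriorPower.ιMulti Γ(Y, V.1) 2 (⇑B)) := funext fun a => by
    rw [hB]
    exact ((φ V).symm.map_smul a _).symm
  rw [e1]
  exact h2

/-- The generator of `g^*(Δ ⊗ L)`. -/
noncomputable def gen (C : Chart (L := L) (g := g) M) :
    Γ(CohB1.tensorMod ((Scheme.Modules.pullback g).obj Δ) ((Scheme.Modules.pullback g).obj L), g ⁻¹ᵁ C.U.1) :=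
  SecTwist.tmul _ _ (g ⁻¹ᵁ C.U.1)
    (unitSec g Δ (wedge M φ C.U (R.t C.U C.e (Frames.cycIsGen C.he)) C.μ)) (unitSec g L C.e)

/-- The generator of `M ⊗ σ^*M`. -/
noncomputable def img (C : Chart (L := L) (g := g) M) :
    Γ(CohB1.tensorMod M ((Scheme.Modules.pullback σ).obj M), g ⁻¹ᵁ C.U.1) :=
  SecTwist.tmul M _ (g ⁻¹ᵁ C.U.1) C.μ (pullSec hσg M C.U.1 C.μ)

include hφ in
theorem compat (hR : CycCov.IsSimple R)
    (hσt : ∀ (U : Y.affineOpens) (e : L.val.obj (op U.1)) (he : CycCov.IsGen L U.1 e)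
      (hle : g ⁻¹ᵁ U.1 ≤ σ ⁻¹ᵁ (g ⁻¹ᵁ U.1)),
      (σ.appLE (g ⁻¹ᵁ U.1) (g ⁻¹ᵁ U.1) hle).hom (R.t U e he) = -R.t U e he)
    (C C' : Chart (L := L) (g := g) M) (Z : Y.affineOpens) (h : Z.1 ≤ C.U.1) (h' : Z.1 ≤ C'.U.1) :
    ∃ c : Γ(Yb, g ⁻¹ᵁ Z.1),
      rs _ (g.preimage_mono h) (gen R M φ C) = c • rs _ (g.preimage_mono h') (gen R M φ C') ∧
      rs _ (g.preimage_mono h) (img hσg M C) = c • rs _ (g.preimage_mono h') (img hσg M C') := by
  have hea : IsGen L Z.1 (rs L h C.e) := C.he.res h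
  have heb : IsGen L Z.1 (rs L h' C'.e) := C'.he.res h'
  obtain ⟨β, hβ⟩ := exists_coord heb (rs L h C.e)
  have hβu : IsUnit β := isUnit_of_isGen_smul heb (hβ ▸ hea)
  obtain ⟨β', hβ'⟩ := hβu.exists_left_inv
  have ta := R.t_res C.U Z h C.e (Frames.cycIsGen C.he) (Frames.cycIsGen hea)
  have tb := R.t_res C'.U Z h' C'.e (Frames.cycIsGen C'.he) (Frames.cycIsGen heb)
  set t := R.t Z (rs L h C.e) (Frames.cycIsGen hea) with htdef
  set t' := R.t Z (rs L h' C'.e) (Frames.cycIsGen heb) with ht'def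
  have tab : t * (g.app Z.1).hom β = t' := by
    have hb' : CycCov.IsGen L Z.1 (β • rs L h' C'.e) := Frames.cycIsGen (hβ ▸ hea)
    have h5 := R.t_smul Z (rs L h' C'.e) (Frames.cycIsGen heb) β hb'
    have h6 : ∀ (e' : Γ(L, Z.1)) (he' : CycCov.IsGen L Z.1 e'), e' = β • rs L h' C'.e →
        R.t Z e' he' = R.t Z (β • rs L h' C'.e) hb' := by rintro _ _ rfl; rfl
    rw [htdef, h6 _ _ hβ]
    exact h5
  obtain ⟨f₀, hf₀⟩ := Frames.exists_phi s hea
  have htt : t * t = (g.app Z.1).hom f₀ := by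
    rw [← sq]
    exact R.pow_eq Z _ (Frames.cycIsGen hea) f₀ hf₀
  set ma := rs M (g.preimage_mono h) C.μ with hma
  set mb := rs M (g.preimage_mono h') C'.μ with hmb
  obtain ⟨p, hp⟩ := exists_coord (C'.hμ.res (g.preimage_mono h')) ma
  obtain ⟨xy, hxy⟩ := (coords R hR Z hea).2 p
  set x := xy 0
  set y := xy 1
  have hp' : p = (g.app Z.1).hom x + (g.app Z.1).hom y * t := hxy.symm
  have hσp : act hσg Z.1 p = (g.app Z.1).hom x - (g.app Z.1).hom y * t := by
    rw [hp', map_add, map_mul, act_app, act_app, sub_eq_add_neg, ← mul_neg]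
    congr 2
    exact hσt Z _ (Frames.cycIsGen hea) (preimage_le hσg Z.1)
  refine ⟨(g.app Z.1).hom (x * x - y * y * f₀), ?_, ?_⟩
  · have hw : wedge M φ Z t ma = (x * x - y * y * f₀) • (β' • wedge M φ Z t' mb) := by
      have e1 : down M ma = x • down M mb + y • down M (t • mb) := by
        rw [down_smul, down_smul, smul_smul, hp, hp', add_smul]
      have e2 : down M (t • ma) = (y * f₀) • down M mb + x • down M (t • mb) := by
        rw [down_smul, down_smul, smul_smul, hp, hp', smul_smul, map_mul, ← htt]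
        show down M _ = down M (_ + _)
        rw [← add_smul]
        exact congrArg (down M) (congrArg₂ (· • ·) (by ring) rfl)
      have e3 : down M (t' • mb) = β • down M (t • mb) := by
        rw [down_smul, smul_smul, ← tab, mul_comm]
      have e4 : wedge M φ Z t' mb = β • wedge M φ Z t mb := by
        have := alt_two (H97.DetSection.lam φ Z) 1 0 0 β (down M mb) (down M (t • mb))
        rw [one_smul, zero_smul, add_zero, zero_smul, zero_add, one_mul, zero_mul, sub_zero, ← e3] at this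
        exact this
      rw [e4, smul_smul β', hβ', one_smul]
      show H97.DetSection.lam φ Z ![down M ma, down M (t • ma)] = _
      rw [e1, e2, alt_two, show x * x - y * (y * f₀) = x * x - y * y * f₀ by ring]
      rfl
    rw [gen, gen, rs_tmul, rs_tmul, unitSec_rs g h, unitSec_rs g h, unitSec_rs g h', unitSec_rs g h',
      rs_wedge M φ hφ h, rs_wedge M φ hφ h']
    rw [show rf (g.preimage_mono h) (R.t C.U C.e (Frames.cycIsGen C.he)) = t from ta,
      show rf (g.preimage_mono h') (R.t C'.U C'.e (Frames.cycIsGen C'.he)) = t' from tb, hw, hβ,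
      unitSec_smul, unitSec_smul, unitSec_smul]
    have e5 : (g.app Z.1).hom β' * (g.app Z.1).hom β = 1 := by rw [← map_mul, hβ', map_one]
    rw [smul_smul]
    refine (Groth.Agent.Lib.Ample.GenLocus.tmul_smul _ _ _ _).trans ?_
    rw [mul_assoc, e5, mul_one]
  · rw [img, img, rs_tmul, rs_tmul, pullSec_rs hσg M h, pullSec_rs hσg M h', ← hma, ← hmb, hp, pullSec_smul]
    refine (Groth.Agent.Lib.Ample.GenLocus.tmul_smul _ _ _ _).trans ?_
    congr 1
    rw [hσp, hp', map_sub, map_mul, map_mul, map_mul, ← htt]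
    ring

include R hσg hφ in
theorem main (hR : CycCov.IsSimple R) (hL : PicF.IsInvertible L) (hM : PicF.IsInvertible M)
    (hσt : ∀ (U : Y.affineOpens) (e : L.val.obj (op U.1)) (he : CycCov.IsGen L U.1 e)
      (hle : g ⁻¹ᵁ U.1 ≤ σ ⁻¹ᵁ (g ⁻¹ᵁ U.1)),
      (σ.appLE (g ⁻¹ᵁ U.1) (g ⁻¹ᵁ U.1) hle).hom (R.t U e he) = -R.t U e he) :
    Nonempty (CohB1.tensorMod ((Scheme.Modules.pullback g).obj Δ) ((Scheme.Modules.pullback g).obj L) ≅
      CohB1.tensorMod M ((Scheme.Modules.pullback σ).obj M)) := by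
  haveI := isFinite R hR hL
  haveI : IsIntegralHom g := inferInstance
  have hM1 : FlatMod.IsFinLocFreeOfRank 1 M := LocFree.of_isInvertible hM
  have hch : ∀ y : Y, ∃ C : Chart (L := L) (g := g) M, y ∈ C.U.1 := by
    intro y
    obtain ⟨W, e, hyW, he⟩ := isInvertible_iff.mp hL y
    obtain ⟨V, hyV, ⟨i⟩⟩ := FibreInt.exists_free_preimage g hM1 y
    obtain ⟨b, hb⟩ := Basis.exists_basis_of_iso i
    have hμ : IsGen M (g ⁻¹ᵁ V) (b 0) := fun O hO => by
      have h1 : (fun a : Γ(Yb, O) => a • rs M hO (b 0)) = Basis.comb b hO ∘ fun a _ => a := funext fun a => by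
        simp [Basis.comb]
      rw [h1]
      exact (hb O hO).comp ⟨fun a a' h => congrFun h 0, fun c => ⟨c 0, funext fun j => by rw [Fin.fin_one_eq_zero j]⟩⟩
    obtain ⟨U, hU, hyU, hle⟩ := exists_isAffineOpen_mem_and_subset (X := Y) (x := y) (U := W ⊓ V) ⟨hyW, hyV⟩
    exact ⟨⟨⟨U, hU⟩, rs L (hle.trans inf_le_left : U ≤ W) e, he.res _,
      rs M (g.preimage_mono (hle.trans inf_le_right : U ≤ V)) (b 0), hμ.res _⟩, hyU⟩
  choose C hyC using hch
  have hcov : (⨆ y, g ⁻¹ᵁ (C y).U.1) = ⊤ :=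
    top_le_iff.mp fun z _ => Opens.mem_iSup.mpr ⟨g z, hyC (g z)⟩
  have hgen : ∀ y, IsGen _ (g ⁻¹ᵁ (C y).U.1) (gen R M φ (C y)) := fun y =>
    isGen_tmul (isGen_unitSec g (isGen_wedge R M φ hφ hR (C y))) (isGen_unitSec g (C y).he)
  have himg : ∀ y, IsGen _ (g ⁻¹ᵁ (C y).U.1) (img hσg M (C y)) := fun y =>
    isGen_tmul (C y).hμ ((isGen_unitSec σ (C y).hμ).res (preimage_le hσg _))
  obtain ⟨I, -⟩ := exists_iso_of_gen hcov (fun y => gen R M φ (C y)) hgen (fun y => img hσg M (C y)) himg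
    fun a b W ha hb c hc => by
      refine sections_ext_cover (fun Z : {Z : Y.affineOpens // Z.1 ≤ (C a).U.1 ⊓ (C b).U.1} => g ⁻¹ᵁ Z.1.1)
        _ (V := W) (fun z hz => ?_) fun Z => ?_
      · obtain ⟨Z, hZ, hzZ⟩ := Groth.Agent.Lib.ClSub.Basis.exists_affine_le (X := Y) (x := g z)
          (U := (C a).U.1 ⊓ (C b).U.1) ⟨ha hz, hb hz⟩
        exact Opens.mem_iSup.mpr ⟨⟨Z, hZ⟩, hzZ⟩
      · obtain ⟨c₀, hc1, hc2⟩ := compat R hσg M φ hφ hR hσt (C a) (C b) Z.1
          (Z.2.trans inf_le_left) (Z.2.trans inf_le_right)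
        have h1 : W ⊓ g ⁻¹ᵁ Z.1.1 ≤ g ⁻¹ᵁ Z.1.1 := inf_le_right
        have e1 := congrArg (rs _ h1) hc1
        have e2 := congrArg (rs _ h1) hc2
        have e3 := congrArg (rs _ (inf_le_left : W ⊓ g ⁻¹ᵁ Z.1.1 ≤ W)) hc
        rw [rs_smul, rs_rs, rs_rs] at e1 e2 e3
        rw [rs_smul, rs_rs, rs_rs, e2]
        congr 1
        exact (hgen b _ _).1 (e1.symm.trans e3)
  exact ⟨I⟩

end Groth.Agent.H12.DblNorm
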